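import Cfsg.Agent.TwoF.XE.Num

/-!
# TwoF / XS, the reduction (1): numerical data of a group, the checks (helper23)
-/

set_option autoImplicit false

namespace Cfsg.Agent.TwoF.XS.Red

open Cfsg.Agent.TwoF.XE Cfsg.Agent.TwoF.Gen

variable {p : ℕ} [Fact p.Prime] {S : Type} [Group S]

/-- one may assume that the centre is trivial -/
theorem row_of_center [IsSimpleGroup S] (h : Subgroup.center S = ⊥ → Row p S) : Row p S := by
  rcases (Subgroup.normal_of_characteristic (Subgroup.center S)).eq_bot_or_eq_top with e | e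
  · exact h e
  refine NoOff.row (noOff_of_sit fun _ _ _ _ _ _ _ K _ π _ H _ _ => ?_)
  have h1 : commutator S = ⊥ := by
    rw [commutator_def, Subgroup.commutator_eq_bot_iff_le_centralizer, Subgroup.coe_top, Subgroup.centralizer_univ, e]
  have h2 := map_commutator_eq K π
  rw [H.toStp.perfect.commutator_eq_top, ← MonoidHom.range_eq_map, MonoidHom.range_eq_top.2 H.surj, ← commutator_def,
    h1] at h2
  exact top_ne_bot h2

/-- dimension bound `d`, multiplier `z`, order `s`, order `o` of `Out` -/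
structure Dt (p : ℕ) [Fact p.Prime] (S : Type) [Group S] (d z s o : ℕ) : Prop where
  lb : LB p S d
  mult : ∀ (K : Type) [Group K] [Finite K] (π : K →* S), IsStemExtension π → Nat.card π.ker ∣ z
  z_pos : 0 < z
  card : Nat.card S = s
  aut : Nat.card (MulAut S) = o * s
  ctr : Subgroup.center S = ⊥

/-- the check for a small prime -/
def ok (d z s o p : ℕ) : Bool :=
  ((z / z.gcd (p ^ z) * s * o.gcd (p ^ o)) ^ 2).blt (p ^ d) || ((o * s) % p ^ (small p + 1) != 0 && o % p != 0)

/-- the check for all large primes -/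
def big (d z s o : ℕ) : Bool := ((z * s * o) ^ 2).blt (24 ^ d) || (23).factorial % (o * s) == 0

theorem lb_zero : LB p S 0 := fun _ _ _ _ _ _ _ _ _ _ _ _ _ _ => Nat.zero_le _

theorem lb_of_mult {r d z : ℕ} (h : H912.Bd.Bd (ZMod p) r d S)
    (hz : ∀ (K : Type) [Group K] [Finite K] (π : K →* S), IsStemExtension π → Nat.card π.ker ∣ z)
    (hn : z.Coprime r) : LB p S d :=
  lb_of_bd h fun K _ _ π hπ _ => Nat.Coprime.coprime_dvd_left (hz K π hπ) hn

namespace Dt

variable [Finite S] {d z s o : ℕ} (h : Dt p S d z s o)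
include h

theorem out : Nat.card (Out S) = o := by
  have h1 := card_aut h.ctr
  rw [h.aut, ← h.card, mul_comm] at h1
  exact (Nat.eq_of_mul_eq_mul_left Nat.card_pos h1).symm

theorem row89 (ho : ¬ p ∣ o) : Row89 p S := row89_of_not_dvd (h.out ▸ ho)

theorem noOff (hlt : (z * s * o) ^ 2 < p ^ d) : NoOff p S :=
  noOff_of_LB h.lb (fun K _ _ π hπ _ => Nat.le_of_dvd h.z_pos (h.mult K π hπ)) h.card.le
    ((pow_factorization_le Nat.card_pos.ne').trans h.out.le) hlt

theorem row_ok (hc : ok d z s o p = true) : Row p S := by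
  have hp : p.Prime := Fact.out
  simp only [ok, Bool.or_eq_true, Bool.and_eq_true, Nat.blt_eq, bne_iff_ne, ne_eq, ← Nat.dvd_iff_mod_eq_zero] at hc
  rcases hc with hc | hc
  · refine (noOff_of_LB h.lb (fun K _ _ π hπ hK => Nat.le_of_dvd ?_ ?_) h.card.le (Nat.le_of_dvd ?_ ?_) hc).row
    · exact Nat.div_pos (Nat.gcd_le_left _ h.z_pos) (Nat.gcd_pos_of_pos_left _ h.z_pos)
    · refine Nat.Coprime.dvd_of_dvd_mul_left (m := z.gcd (p ^ z)) ?_ ?_
      · exact Nat.Coprime.coprime_dvd_right (Nat.gcd_dvd_right _ _)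
          (Nat.Coprime.pow_right _ ((Nat.Prime.coprime_iff_not_dvd hp).2 hK).symm)
      · rw [Nat.mul_div_cancel' (Nat.gcd_dvd_left _ _)]
        exact h.mult K π hπ
    · exact Nat.gcd_pos_of_pos_right _ (pow_pos hp.pos _)
    · rw [h.out]
      refine Nat.dvd_gcd (Nat.ordProj_dvd o p) (pow_dvd_pow p ?_)
      rcases Nat.eq_zero_or_pos o with rfl | h0
      · simp
      · exact (Nat.factorization_lt p h0.ne').le
  · exact ⟨row88_of_not_dvd (h.aut ▸ hc.1), h.row89 hc.2⟩

theorem row_big (hc : big d z s o = true) (hp : 24 ≤ p) : Row p S := by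
  simp only [big, Bool.or_eq_true, Nat.blt_eq, beq_iff_eq, ← Nat.dvd_iff_mod_eq_zero] at hc
  rcases hc with hc | hc
  · exact (h.noOff (hc.trans_le (Nat.pow_le_pow_left hp d))).row
  · refine (noOff_of_not_dvd fun e => ?_).row
    have := (Nat.Prime.dvd_factorial Fact.out).1 ((h.aut ▸ e).trans hc)
    omega

/-- the finite check -/
theorem row_or {r : ℕ} (hrp : r ≠ p) {E : ℕ → Prop} (hc : big d z s o = true ∧
    ∀ t ∈ [2, 3, 5, 7, 11, 13, 17, 19, 23], t = r ∨ ok d z s o t = true ∨ E t) : Row p S ∨ E p := by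
  by_cases hp : 24 ≤ p
  · exact Or.inl (h.row_big hc.1 hp)
  have h1 : p ∈ [2, 3, 5, 7, 11, 13, 17, 19, 23] := by
    have h2 : p.Prime := Fact.out
    have h3 : p < 24 := by omega
    revert h2
    interval_cases p <;> first | decide | norm_num
  rcases hc.2 p h1 with e | e | e
  · exact (hrp e.symm).elim
  · exact Or.inl (h.row_ok e)
  · exact Or.inr e

omit h in
theorem sq_le_two_pow {k : ℕ} (hk : 10 ≤ k) : 8 * (k + 1) ^ 2 + 2 ≤ 2 ^ k := by
  induction k, hk using Nat.le_induction with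
  | base => norm_num
  | succ n hn ih => rw [pow_succ 2]; nlinarith

/-- the generic case -/
theorem row_gen {q m : ℕ} (hq : 2 ≤ q) (hQ : 1024 ≤ q ^ m) (hx : z * s * o ≤ q ^ (2 * m ^ 2 + 2 * m))
    (hd : q ^ m ≤ 2 * d + 2) : Row p S := by
  have h1 : 2 ^ m ≤ q ^ m := Nat.pow_le_pow_left hq m
  rw [show 2 * m ^ 2 + 2 * m = m * (2 * m + 2) by ring, pow_mul] at hx
  generalize q ^ m = Q at *
  have h2 := Nat.lt_pow_succ_log_self one_lt_two Q
  have h3 := Nat.pow_log_le_self 2 (show Q ≠ 0 by omega)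
  have h4 : 10 ≤ Nat.log 2 Q := Nat.le_log_of_pow_le one_lt_two hQ
  have h5 : m ≤ Nat.log 2 Q := Nat.le_log_of_pow_le one_lt_two h1
  have h6 := sq_le_two_pow h4
  generalize Nat.log 2 Q = k at *
  refine (h.noOff (lt_of_le_of_lt (Nat.pow_le_pow_left hx 2) ?_)).row
  calc (Q ^ (2 * m + 2)) ^ 2 = Q ^ (4 * m + 4) := by rw [← pow_mul]; congr 1; ring
    _ < (2 ^ (k + 1)) ^ (4 * m + 4) := Nat.pow_lt_pow_left h2 (by omega)
    _ ≤ 2 ^ d := by
      rw [← pow_mul]
      exact Nat.pow_le_pow_right two_pos (by nlinarith)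
    _ ≤ p ^ d := Nat.pow_le_pow_left (Fact.out : p.Prime).two_le d

end Dt

theorem prod_le (q m : ℕ) : ∏ i ∈ Finset.range m, (q ^ (2 * (i + 1)) - 1) ≤ q ^ (m ^ 2 + m) := by
  induction m with
  | zero => simp
  | succ n ih =>
    rw [Finset.prod_range_succ, show (n + 1) ^ 2 + (n + 1) = n ^ 2 + n + 2 * (n + 1) by ring, pow_add]
    exact Nat.mul_le_mul ih (Nat.sub_le _ _)

theorem two_mul_le {r f : ℕ} (hr : 2 ≤ r) : 2 * f ≤ r ^ f := by
  refine le_trans ?_ (Nat.pow_le_pow_left hr f)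
  rcases f with _ | f
  · simp
  · have := Nat.lt_two_pow_self (n := f)
    rw [pow_succ]; omega

/-- the range of the finite check -/
theorem small_range {r f m : ℕ} (hr : r.Prime) (hf : 1 ≤ f) (hm : 2 ≤ m) (h : (r ^ f) ^ m < 1024) :
    r ∈ [2, 3, 5, 7, 11, 13, 17, 19, 23, 29, 31] ∧ f < 5 ∧ m < 10 := by
  have h2 := hr.two_le
  have h3 : r ^ f < 32 := by
    by_contra h3
    have := (Nat.pow_le_pow_left (not_lt.1 h3) 2).trans (Nat.pow_le_pow_right (by omega) hm)
    omega
  have h4 : r ≤ r ^ f := Nat.le_self_pow (by omega) r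
  refine ⟨?_, ?_, ?_⟩
  · have h5 : r < 32 := by omega
    clear h h3 h4
    revert hr
    interval_cases r <;> first | decide | norm_num
  · by_contra h5
    have := (Nat.pow_le_pow_left h2 5).trans (Nat.pow_le_pow_right (by omega) (not_lt.1 h5))
    omega
  · by_contra h5
    have := (Nat.pow_le_pow_left (h2.trans h4) 10).trans (Nat.pow_le_pow_right (by omega) (not_lt.1 h5))
    omega

end Cfsg.Agent.TwoF.XS.Red
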